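import Cfsg.Agent.HNXYZ.Oracle
import Cfsg.Agent.HNXYZ.Cert.S2
import Cfsg.Agent.HNCert.Sep

/-!
The group on `x, y, z` with the relators of `HN` free of `t` has at most 177408000 elements: it has
352 cosets of the image of the group on `x, y`, and in that image an element of order three dies,
since it is both centralised and inverted by `z`.
-/

set_option autoImplicit false
set_option maxRecDepth 100000
set_option Elab.async false

namespace CfsgLib.HNXYZ

open CfsgLib.CosetEnum CfsgLib.LyG2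

noncomputable section

theorem toP_isOne {w : List ℕ} (h : isOne w = true) : prodw g6 w = 1 := by
  have hlt : ∀ x ∈ w, x < 4 := by
    simp only [isOne, Bool.and_eq_true, List.all_eq_true, Nat.blt_eq] at h
    exact h.1
  rw [← toP_prodw hlt, one_of_isOne h, map_one]

/-- The inverse word. -/
def invW (w : List ℕ) : List ℕ := w.reverse.map iv

theorem toP_isOne_eq {a b : List ℕ} (h : isOne (a ++ invW b) = true) : prodw g6 a = prodw g6 b := by
  have := toP_isOne h
  rw [prodw_append, invW, prodw_inv g6_iv, mul_inv_eq_one] at this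
  exact this

/-- The words of `x, x⁻¹, w, w⁻¹`. -/
def gw1 : ℕ → List ℕ
  | 0 => [0]
  | 1 => [1]
  | 2 => wW
  | _ => invW wW

/-- Their conjugates by `z`. -/
def gw2 : ℕ → List ℕ
  | 0 => [1]
  | 1 => [0]
  | 2 => wW ++ [0, 0]
  | _ => [1, 1] ++ invW wW

theorem zxz : g6 4 * g6 0 * g6 4 = (g6 0)⁻¹ := by
  have h := base_rel (w := [4, 0, 4, 0]) (by decide +kernel)
  refine eq_inv_of_mul_eq_one_left ?_
  simpa [prodw, mul_assoc] using h

theorem z_mul_z : g6 4 * g6 4 = 1 := by
  simpa [prodw] using base_rel (w := [4, 4]) (by decide +kernel)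

theorem x_pow_four : g6 0 * g6 0 * (g6 0 * g6 0) = 1 := by
  simpa [prodw, mul_assoc] using la_loop LA.loop0_ok

theorem zwz : g6 4 * prodw g6 wW * g6 4 = prodw g6 wW * (g6 0 * g6 0) := by
  have h := base_rel (w := [5] ++ invW wW ++ [4] ++ wW ++ [1, 1]) (by decide +kernel)
  simp only [prodw_append, prodw_inv g6_iv, invW] at h
  simp only [prodw_cons, prodw_nil, mul_one] at h
  have h5 : g6 5 = g6 4 := by
    rw [show (5 : ℕ) = iv 4 from rfl, g6_iv]
    exact inv_eq_of_mul_eq_one_right z_mul_z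
  have h1 : g6 1 = (g6 0)⁻¹ := by rw [show (1 : ℕ) = iv 0 from rfl, g6_iv]
  rw [h5, h1] at h
  generalize prodw g6 wW = w at h ⊢
  have hz : (g6 4)⁻¹ = g6 4 := inv_eq_of_mul_eq_one_right z_mul_z
  have hx : (g6 0)⁻¹ * (g6 0)⁻¹ = g6 0 * g6 0 := by
    rw [← mul_inv_rev]
    exact inv_eq_of_mul_eq_one_right x_pow_four
  -- `w⁻¹ z w = z x²`
  have h' : w⁻¹ * g6 4 * w = g6 4 * (g6 0 * g6 0) := by
    calc w⁻¹ * g6 4 * w = g6 4 * (g6 4 * w⁻¹ * g6 4 * w * (g6 0)⁻¹ * (g6 0)⁻¹) *
          ((g6 0)⁻¹ * (g6 0)⁻¹)⁻¹ := by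
          simp only [← mul_assoc, z_mul_z, one_mul]; group
      _ = g6 4 * (g6 0 * g6 0) := by
          have e : g6 4 * w⁻¹ * g6 4 * w * (g6 0)⁻¹ * (g6 0)⁻¹ = 1 := by
            simpa [mul_assoc] using h
          rw [e, mul_one, mul_inv_rev, inv_inv]
  have h2 : g6 4 * (g6 0 * g6 0) * g6 4 = (g6 0)⁻¹ * (g6 0)⁻¹ := by
    calc g6 4 * (g6 0 * g6 0) * g6 4 = (g6 4 * g6 0 * g6 4) * (g6 4 * g6 0 * g6 4) := by
          simp only [mul_assoc]
          rw [← mul_assoc (g6 4) (g6 4), z_mul_z, one_mul]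
      _ = _ := by rw [zxz]
  calc g6 4 * w * g6 4 = w * (w⁻¹ * g6 4 * w) * g6 4 := by group
    _ = w * (g6 4 * (g6 0 * g6 0) * g6 4) := by rw [h']; simp only [mul_assoc]
    _ = _ := by rw [h2, hx]

theorem conj_gen : ∀ i, i < 4 → g6 4 * prodw g6 (gw1 i) * g6 4 = prodw g6 (gw2 i) := by
  have key : ∀ a b : HNCert.P, g6 4 * a * g6 4 = b → g6 4 * a⁻¹ * g6 4 = b⁻¹ := by
    intro a b h
    rw [← h, mul_inv_rev, mul_inv_rev, inv_eq_of_mul_eq_one_right z_mul_z, mul_assoc]
  have h1 : g6 1 = (g6 0)⁻¹ := by rw [show (1 : ℕ) = iv 0 from rfl, g6_iv]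
  intro i hi
  interval_cases i
  · simpa [gw1, gw2, prodw, h1] using zxz
  · have := key _ _ zxz
    simpa [gw1, gw2, prodw, h1] using this
  · simpa [gw1, gw2, prodw_append, prodw] using zwz
  · have := key _ _ zwz
    simp only [gw1, gw2, invW, prodw_inv g6_iv, prodw_append]
    rw [this, mul_inv_rev, mul_inv_rev]
    simp [prodw, h1]

theorem conj_word : ∀ r : List ℕ, (∀ i ∈ r, i < 4) →
    g6 4 * prodw g6 (r.flatMap gw1) * g6 4 = prodw g6 (r.flatMap gw2) := by
  intro r
  induction r with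
  | nil => intro _; simpa [prodw] using z_mul_z
  | cons i r ih =>
    intro h
    rw [List.flatMap_cons, List.flatMap_cons, prodw_append, prodw_append,
      ← conj_gen i (h i List.mem_cons_self), ← ih fun j hj => h j (List.mem_cons_of_mem i hj)]
    simp only [mul_assoc]
    rw [← mul_assoc (g6 4) (g6 4), z_mul_z, one_mul]

/-- Check a pair exchanged by `z`. -/
def pairOK (p : List ℕ × List ℕ × List ℕ) : Bool :=
  (p.2.2.all fun i => Nat.blt i 4) && (isOne (p.1 ++ invW (p.2.2.flatMap gw1)) &&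
    isOne (p.2.1 ++ invW (p.2.2.flatMap gw2)))

theorem conj_pair {b o r : List ℕ} (h : pairOK (b, o, r) = true) :
    g6 4 * prodw g6 b * g6 4 = prodw g6 o := by
  simp only [pairOK, Bool.and_eq_true, List.all_eq_true, Nat.blt_eq] at h
  rw [toP_isOne_eq h.2.1, toP_isOne_eq h.2.2]
  exact conj_word r h.1

theorem elem_facts : isOne (wE ++ wE ++ wE) = true ∧
    isOne ([0] ++ wE ++ [1] ++ wE) = true ∧ isOne ([2] ++ wE ++ [3] ++ invW wE) = true ∧
    pairOK (wE, wE, wEr) = true ∧ Nat.beq (wk wE 0) 0 = false := by decide +kernel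

theorem elem_ne : prodw ga wE ≠ 1 := by
  intro h
  have hlt : ∀ x ∈ wE, x < 4 := by decide +kernel
  have e := act_word hlt ⟨0, by norm_num⟩
  rw [h, map_one, inv_one, Equiv.Perm.one_apply] at e
  have := elem_facts.2.2.2.2
  rw [← e] at this
  exact Bool.noConfusion this

theorem elem_dies : prodw g6 wE = 1 := by
  obtain ⟨h3, hx, hy, hz, -⟩ := elem_facts
  replace h3 := toP_isOne h3
  replace hx := toP_isOne hx
  replace hy := toP_isOne hy
  replace hz := conj_pair hz
  have h1 : g6 1 = (g6 0)⁻¹ := by rw [show (1 : ℕ) = iv 0 from rfl, g6_iv]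
  have h3' : g6 3 = (g6 2)⁻¹ := by rw [show (3 : ℕ) = iv 2 from rfl, g6_iv]
  simp only [prodw_append, invW, prodw_inv g6_iv] at h3 hx hy
  simp only [prodw_cons, prodw_nil, mul_one, h1, h3'] at h3 hx hy
  have hR : g6 4 = ((prodw g6 wU * g6 0) ^ 3)⁻¹ := by
    have h := base_rel (w := [4] ++ ((wU ++ [0]) ++ (wU ++ [0]) ++ (wU ++ [0]))) (by decide +kernel)
    simp only [prodw_append, prodw_cons, prodw_nil, mul_one] at h
    refine eq_inv_of_mul_eq_one_left ?_
    rw [pow_three, ← h]
    simp only [mul_assoc]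
  have hU : prodw g6 wU = (prodw g6 wV)⁻¹ * g6 4 * prodw g6 wV := by
    rw [show wU = invW wV ++ [4] ++ wV by decide +kernel, prodw_append, prodw_append, invW,
      prodw_inv g6_iv]
    simp [prodw]
  have hV : prodw g6 wV = g6 2 * g6 2 * g6 2 * g6 0 * g6 2 * g6 0 * g6 2 := by
    simp [wV, prodw, mul_assoc]
  generalize prodw g6 wE = c at *
  generalize prodw g6 wU = u at *
  generalize prodw g6 wV = v at *
  generalize g6 0 = a at *
  generalize g6 2 = b at *
  have hzz : g6 4 * g6 4 = 1 := z_mul_z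
  generalize g6 4 = d at *
  have hdi : d⁻¹ = d := inv_eq_of_mul_eq_one_right hzz
  have cd : MulAut.conj d c = c := by rw [MulAut.conj_apply, hdi]; exact hz
  have ca : MulAut.conj a c = c⁻¹ := by
    rw [MulAut.conj_apply]; exact eq_inv_of_mul_eq_one_left hx
  have cb : MulAut.conj b c = c := by
    rw [MulAut.conj_apply]; exact mul_inv_eq_one.1 hy
  have cv : MulAut.conj v c = c := by
    rw [hV]; simp only [map_mul, MulAut.mul_apply, cb, ca, map_inv, inv_inv]
  have cvi : MulAut.conj v⁻¹ c = c := by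
    conv_lhs => rw [← cv]
    rw [← MulAut.mul_apply, ← map_mul, inv_mul_cancel, map_one, MulAut.one_apply]
  have cu : MulAut.conj u c = c := by
    rw [hU]; simp only [map_mul, MulAut.mul_apply, cv, cd, cvi]
  have cux : MulAut.conj (u * a) c = c⁻¹ := by
    simp only [map_mul, MulAut.mul_apply, ca, map_inv, cu]
  have c3 : MulAut.conj ((u * a) ^ 3) c = c⁻¹ := by
    rw [pow_three]; simp only [map_mul, MulAut.mul_apply] at cux ⊢
    simp only [cux, map_inv, inv_inv]
  have hd2 : MulAut.conj ((u * a) ^ 3) c = c := by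
    have e : (u * a) ^ 3 = d := by rw [← hdi, hR, inv_inv]
    rw [e, cd]
  have hc2 : c * c = 1 := by
    have := c3.symm.trans hd2
    calc c * c = c⁻¹ * c := by rw [this]
      _ = 1 := inv_mul_cancel c
  calc c = c * (c * c) := by rw [hc2, mul_one]
    _ = 1 := by rw [← mul_assoc]; exact h3

/-- The image of the group on `x, y`. -/
abbrev HP : Subgroup HNCert.P := toP.range

theorem HP_bound : Finite HP ∧ Nat.card HP ≤ 504000 := by
  haveI := GA_bound.1
  haveI : Finite HP := Finite.of_surjective toP.rangeRestrict toP.rangeRestrict_surjective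
  refine ⟨inferInstance, ?_⟩
  have h := Subgroup.card_eq_card_quotient_mul_card_subgroup toP.ker
  rw [Nat.card_congr (QuotientGroup.quotientKerEquivRange toP).toEquiv] at h
  have hk : 3 ≤ Nat.card toP.ker := by
    have he : prodw ga wE ∈ toP.ker := by
      rw [MonoidHom.mem_ker, toP_prodw (by decide +kernel), elem_dies]
    have ho : orderOf (prodw ga wE) = 3 := by
      haveI : Fact (Nat.Prime 3) := ⟨Nat.prime_three⟩
      refine orderOf_eq_prime ?_ elem_ne
      have := one_of_isOne elem_facts.1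
      simp only [prodw_append] at this
      rw [pow_three, ← mul_assoc]
      exact this
    have hle := Subgroup.zpowers_le.2 he
    have := Nat.le_of_dvd Nat.card_pos (Subgroup.card_dvd_of_le hle)
    rwa [Nat.card_zpowers, ho] at this
  have hA := GA_bound.2
  have : Nat.card HP * 3 ≤ Nat.card GA := by rw [h]; exact Nat.mul_le_mul_left _ hk
  show Nat.card HP ≤ 504000
  omega

/-- The letters `x, x⁻¹, y, y⁻¹, z, z⁻¹, w, w⁻¹, u, u⁻¹`. -/
def g10 (i : ℕ) : HNCert.P :=
  lv (fun j => match j with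
    | 0 => g6 0
    | 1 => g6 2
    | 2 => g6 4
    | 3 => prodw g6 wW
    | 4 => prodw g6 wU
    | _ => 1) i

theorem g10_iv (x : ℕ) : g10 (iv x) = (g10 x)⁻¹ := lv_iv _ _

/-- The words of the ten letters. -/
def ex10 : ℕ → List ℕ
  | 6 => wW
  | 7 => invW wW
  | 8 => wU
  | 9 => invW wU
  | i => [i]

theorem g10_eq {x : ℕ} (hx : x < 10) : g10 x = prodw g6 (ex10 x) := by
  interval_cases x <;>
    simp [g10, g6, ex10, lv_eq, prodw, invW] <;>
    first
      | rfl
      | exact (prodw_inv g6_iv _).symm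

theorem g10_word {w : List ℕ} (hw : ∀ x ∈ w, x < 10) : prodw g10 w = prodw g6 (w.flatMap ex10) :=
  prodw_subst ex10 w fun x hx => g10_eq (hw x hx)

/-- Rotations of a word. -/
def rots (w : List ℕ) : List (List ℕ) := (List.range w.length).map fun k => w.drop k ++ w.take k

/-- The relators of the enumeration before rotation. -/
def allRels : List (List ℕ) :=
  baseRels ++ conjPairs.map fun p => [4] ++ p.1 ++ [4] ++ invW p.2.1

theorem pairs_ok : conjPairs.all pairOK = true := by decide +kernel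

theorem allRels_one {w : List ℕ} (hw : w ∈ allRels) : prodw g10 w = 1 := by
  rcases List.mem_append.1 hw with h | h
  · -- derived from the relators by substitution
    have hsimple : ∀ w ∈ baseRels, (w.all fun x => Nat.blt x 10) = true ∧
        (w = [0, 0, 4, 1, 1, 4] ∨ w = [8, 8] ∨ w = [4, 7, 4, 6, 0, 0] ∨
          ([[0, 0, 0, 0], [0, 0, 2, 1, 1, 3]] ++ [] :: relsP).any
            (fun r => sameRed (w.flatMap ex10) r) = true) := by decide +kernel
    obtain ⟨hlt, hcase⟩ := hsimple w h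
    simp only [List.all_eq_true, Nat.blt_eq] at hlt
    rw [g10_word hlt]
    have h1 : g6 1 = (g6 0)⁻¹ := by rw [show (1 : ℕ) = iv 0 from rfl, g6_iv]
    rcases hcase with rfl | rfl | rfl | hr
    · have hx2 : g6 4 * (g6 0)⁻¹ * (g6 0)⁻¹ * g6 4 = g6 0 * g6 0 := by
        calc g6 4 * (g6 0)⁻¹ * (g6 0)⁻¹ * g6 4
            = g6 4 * (g6 4 * g6 0 * g6 4) * (g6 4 * g6 0 * g6 4) * g6 4 := by rw [zxz]
          _ = g6 0 * g6 0 := by
            simp only [← mul_assoc, z_mul_z, one_mul]
            simp only [mul_assoc, z_mul_z, mul_one]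
      calc prodw g6 ([0, 0, 4, 1, 1, 4].flatMap ex10)
          = g6 0 * g6 0 * (g6 4 * (g6 0)⁻¹ * (g6 0)⁻¹ * g6 4) := by
            simp [ex10, prodw, h1, mul_assoc]
        _ = 1 := by rw [hx2]; exact x_pow_four
    · show prodw g6 (wU ++ (wU ++ [])) = 1
      rw [List.append_nil, prodw_append, show wU = invW wV ++ [4] ++ wV by decide +kernel,
        prodw_append, prodw_append, invW, prodw_inv g6_iv, show prodw g6 [4] = g6 4 by simp [prodw]]
      calc (prodw g6 wV)⁻¹ * g6 4 * prodw g6 wV * ((prodw g6 wV)⁻¹ * g6 4 * prodw g6 wV)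
          = (prodw g6 wV)⁻¹ * (g6 4 * g6 4) * prodw g6 wV := by group
        _ = 1 := by rw [z_mul_z]; group
    · show prodw g6 ([4] ++ (invW wW ++ ([4] ++ (wW ++ [0, 0])))) = 1
      simp only [prodw_append, invW, prodw_inv g6_iv]
      rw [show prodw g6 [4] = g6 4 by simp [prodw], show prodw g6 [0, 0] = g6 0 * g6 0 by simp [prodw],
        ← zwz]
      calc g6 4 * ((prodw g6 wW)⁻¹ * (g6 4 * (g6 4 * prodw g6 wW * g6 4)))
          = g6 4 * ((prodw g6 wW)⁻¹ * ((g6 4 * g6 4) * prodw g6 wW)) * g6 4 := by group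
        _ = 1 := by rw [z_mul_z, one_mul, inv_mul_cancel, mul_one, z_mul_z]
    · simp only [List.any_eq_true] at hr
      obtain ⟨r, hr, hs⟩ := hr
      rw [prodw_of_sameRed g6_iv hs]
      simp only [List.mem_append, List.mem_cons, List.not_mem_nil, or_false] at hr
      rcases hr with (rfl | rfl) | rfl | hr
      · exact la_loop LA.loop0_ok
      · exact la_loop LA.loop1_ok
      · rfl
      · exact base_rel hr
  · obtain ⟨p, hp, rfl⟩ := List.mem_map.1 h
    obtain ⟨b, o, r⟩ := p
    have hlt : ∀ p ∈ conjPairs, ∀ x ∈ [4] ++ p.1 ++ [4] ++ invW p.2.1, x < 6 := by decide +kernel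
    have e : prodw g10 ([4] ++ b ++ [4] ++ invW o) = prodw g6 ([4] ++ b ++ [4] ++ invW o) := by
      refine HNCert.prodw_congr fun x hx => ?_
      have := hlt _ hp x hx
      rw [g10_eq (by omega)]
      interval_cases x <;> simp [ex10, prodw]
    rw [e, prodw_append, prodw_append, prodw_append, invW, prodw_inv g6_iv,
      show prodw g6 [4] = g6 4 by simp [prodw],
      conj_pair (List.all_eq_true.1 pairs_ok _ hp), mul_inv_cancel]

theorem s2_rels : ∀ r, r < S2.log.nR → prodw g10 (S2.log.words.getD r []) = 1 := by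
  refine rels_one (allRels.flatMap rots) ?_ (by decide +kernel) (by decide +kernel)
  intro w hw
  obtain ⟨r, hr, hw⟩ := List.mem_flatMap.1 hw
  obtain ⟨k, -, rfl⟩ := List.mem_map.1 hw
  have h := allRels_one hr
  rw [← List.take_append_drop k r, prodw_append] at h
  rw [prodw_append, eq_inv_of_mul_eq_one_left h, mul_inv_cancel]

theorem s2_subs : ∀ r, r < S2.log.words.length → prodw g10 (S2.log.words.getD r []) ∈ HP :=
  subs_mem HP s2_rels (by
    intro w hw
    rw [show S2.log.words.drop S2.log.nR = [[0], [2], [6]] by decide +kernel] at hw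
    simp only [List.mem_cons, List.not_mem_nil, or_false] at hw
    rcases hw with rfl | rfl | rfl
    · exact ⟨ga 0, (toP_ga (by omega)).trans (by simp [prodw, g10, lv_eq])⟩
    · exact ⟨ga 2, (toP_ga (by omega)).trans (by simp [prodw, g10, lv_eq])⟩
    · exact ⟨prodw ga wW, (toP_prodw (by decide +kernel)).trans (by simp [prodw, g10, lv_eq])⟩)

end

end CfsgLib.HNXYZ

namespace CfsgLib.HNXYZ

open CfsgLib.CosetEnum CfsgLib.LyG2 CfsgLib.HNCert

/-- The group on `x, y, z` has at most 177408000 elements. -/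
theorem bound : HNCert.Bound := by
  haveI := HP_bound.1
  have hk : S2.log.k = 10 := by decide +kernel
  have h := CfsgLib.HNXYZ.finite_and_card_le g10_iv S2.log HP s2_rels s2_subs (letters_lt S2.letters_ok)
    S2.factsOK S2.closed (d := 9) (show S2.log.k ≤ 14 by decide +kernel)
    (by intro x hx; rw [hk] at hx ⊢; interval_cases x <;> decide)
    (show S2.closed.n ≤ 2 ^ 9 by decide +kernel) (by decide +kernel) (by decide +kernel) S2.edgesOK
  have htop : Subgroup.closure (g10 '' {x | x < S2.log.k}) = ⊤ := by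
    rw [eq_top_iff, ← PresentedGroup.closure_range_of]
    refine Subgroup.closure_mono ?_
    rintro _ ⟨a, rfl⟩
    cases a
    · exact ⟨0, show 0 < S2.log.k by omega, by simp [g10, g6, lv_eq, pg, HNCert.val]⟩
    · exact ⟨2, show 2 < S2.log.k by omega, by simp [g10, g6, lv_eq, pg, HNCert.val]⟩
    · exact ⟨4, show 4 < S2.log.k by omega, by simp [g10, g6, lv_eq, pg, HNCert.val]⟩
  rw [htop] at h
  haveI := h.1
  refine ⟨Finite.of_equiv _ Subgroup.topEquiv.toEquiv, ?_⟩
  rw [← Nat.card_congr (Subgroup.topEquiv (G := P)).toEquiv]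
  refine h.2.trans ?_
  rw [show S2.closed.n = 352 by decide +kernel]
  exact (Nat.mul_le_mul_left _ HP_bound.2).trans (by norm_num)

end CfsgLib.HNXYZ
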